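import Cfsg.Agent.H212.NM.Odd
import Cfsg.Agent.H83.EA.Ten

/-! # S3499, V-ALT: `EA10` (helper212, with helper83's reduction) -/

set_option autoImplicit false

namespace Cfsg.Agent.H212.NM

theorem natp' : Cfsg.Agent.H83.EA.NATp := by
  intro Q _ _ hs A Γ h F _ _ ι _ _ Qf m hQ P hP p _ _ hp hp2 c hc φ w hw
  exact natp hs h m hQ hP p hp hp2 hc φ hw

/-- **EA10** -/
theorem ea10 : Cfsg.Agent.H545.EA.EA10 := Cfsg.Agent.H83.EA.ea10_of natp'

end Cfsg.Agent.H212.NM
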